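import Mathlib
import Cfsg.Agent.Lib.Helper60.SUG.GenDefs

/-!
# Project SUG (S2412), [GEN] leaf [GSHIFT]

The cyclic shift moves supports up by one.
-/

set_option autoImplicit false

namespace Cfsg.Agent.Lib.Helper72.SUG

open Matrix Cfsg.Agent.Lib.Helper60.SUG

universe u

theorem pkgGShift : PkgGShift.{u} := by
  intro F _ q n c hc v m hm hmn hv ⟨i, hi, hvi⟩
  refine ⟨?_, ⟨m, hmn⟩, rfl, ?_⟩
  · intro j hj
    have hj1 : (j : ℕ) - 1 < n := by
      have := j.isLt
      omega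
    rw [hc.1 v ⟨(j : ℕ) - 1, hj1⟩ j (by simp only []; omega)]
    exact hv _ (by simp only []; omega)
  · rw [hc.1 v i ⟨m, hmn⟩ (by simp only []; omega)]
    exact hvi

end Cfsg.Agent.Lib.Helper72.SUG
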