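import Mathlib
import Cfsg.Agent.Lib.Helper60.SUG.GenDefs

/-!
# Project SUG (S2412), [GEN] leaf [GSPAN]

`vA`, `vB` span the vectors supported on the coordinates `0, 1`.
-/

set_option autoImplicit false

namespace Cfsg.Agent.Lib.Helper72.SUG

open Matrix Cfsg.Agent.Lib.Helper60.SUG

universe u

theorem pkgGSpan : PkgGSpan.{u} := by
  intro F _ n hn lam α hlam hα hα2 v hv
  have hd : α - α⁻¹ ≠ 0 := by
    intro h
    apply hα2
    have h1 : α = α⁻¹ := sub_eq_zero.mp h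
    have h2 : α * α⁻¹ = 1 := mul_inv_cancel₀ hα
    rw [← h1] at h2
    rw [pow_two]
    exact h2
  obtain ⟨D, hD⟩ : ∃ D : F, D = α - α⁻¹ := ⟨_, rfl⟩
  rw [← hD] at hd
  obtain ⟨v0, hv0⟩ : ∃ v0 : F, v0 = v ⟨0, by omega⟩ := ⟨_, rfl⟩
  obtain ⟨v1, hv1⟩ : ∃ v1 : F, v1 = v ⟨1, by omega⟩ := ⟨_, rfl⟩
  obtain ⟨b, hb⟩ : ∃ b : F, b * D = v0 - v1 / lam := ⟨(v0 - v1 / lam) / D, div_mul_cancel₀ _ hd⟩
  have h2 : lam * (v1 / lam) = v1 := mul_div_cancel₀ _ hlam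
  refine ⟨v0 - b * α, b, ?_⟩
  funext k
  simp only [Pi.add_apply, Pi.smul_apply, smul_eq_mul, vA, vB]
  by_cases h0 : (k : ℕ) = 0
  · have hk : k = ⟨0, by omega⟩ := Fin.ext h0
    rw [if_pos h0, if_pos h0, hk, ← hv0]
    ring
  · by_cases h1 : (k : ℕ) = 1
    · have hk : k = ⟨1, by omega⟩ := Fin.ext h1
      rw [if_neg h0, if_neg h0, if_pos h1, if_pos h1, hk, ← hv1]
      linear_combination lam * hb - h2 - lam * b * hD
    · rw [if_neg h0, if_neg h0, if_neg h1, if_neg h1, hv k (by omega)]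
      ring

end Cfsg.Agent.Lib.Helper72.SUG
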